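import Cfsg.Agent.DCosetCert22.Closure
import Mathlib.GroupTheory.OrderOfElement

/-!
Fixed cosets of an element of the small group from a closed double coset certificate whose
stabiliser chains add up to the index.
-/

set_option autoImplicit false

namespace CfsgLib.DCosetFix69

open DCert22

variable {G Hg : Type*} [Group G] [Group Hg] {C : Code} (M : Model C G Hg)
variable {L : Subgroup G} {D : Cert} {n : ℕ} {live : List ℕ}

/-- membership in a stabiliser, by dividing off transversal elements level by level -/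
def siftOK (img : ℕ → ℕ → ℕ) (C : Code) (D : Cert) : List (ℕ × List ℕ) → ℕ → Bool
  | [], x => Nat.beq x C.one
  | (b, is) :: rest, x => is.any fun i =>
      match D.facts.get i with
      | some f => Nat.beq (img f.x b) (img x b) && siftOK img C D rest (C.mul (C.inv f.x) x)
      | none => false

theorem levelOK_spec' (P : Points M) (hA : AllHold M L D n) {a : ℕ} {fixed : List ℕ} {b : ℕ} :
    ∀ (is seen : List ℕ), levelOK P.img C D n a fixed b is seen = true →
    ∃ l : List Hg, l.length = is.length ∧
      (∀ k ∈ l, k ∈ stab M L D a ∧ (∀ p ∈ fixed, P.img (M.enc k) p = p) ∧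
        P.img (M.enc k) b ∉ seen ∧ ∃ i ∈ is, ∃ f, D.facts.get i = some f ∧ f.x = M.enc k) ∧
      (l.map fun k => P.img (M.enc k) b).Nodup
  | [], seen, _ => ⟨[], rfl, by simp, by simp⟩
  | i :: is, seen, h => by
    simp only [levelOK, Bool.and_eq_true, Nat.blt, Nat.ble_eq] at h
    obtain ⟨hi, h⟩ := h
    split at h
    swap; · simp at h
    next f hf =>
    simp only [Bool.and_eq_true, Bool.not_eq_true', List.all_eq_true] at h
    obtain ⟨⟨⟨⟨⟨⟨he, ha⟩, hb⟩, hy⟩, hfix⟩, hseen⟩, hrec⟩ := h
    obtain ⟨⟨k, hk⟩, -, hr⟩ := hA i hi f hf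
    obtain ⟨l, hl, hl1, hl2⟩ := levelOK_spec' P hA is _ hrec
    have hseen' : P.img f.x b ∉ seen := by simpa using hseen
    refine ⟨k :: l, by simp [hl], ?_, ?_⟩
    · intro z hz
      rcases List.mem_cons.1 hz with rfl | hz
      · refine ⟨?_, fun p hp => ?_, hk ▸ hseen', i, List.mem_cons_self, f, hf, hk.symm⟩
        · show DCert22.Rel L _ _
          simp only [he, Bool.false_eq_true, if_false, mul_one, stVal, Nat.eq_of_beq_eq_true ha,
            Nat.eq_of_beq_eq_true hb, Nat.eq_of_beq_eq_true hy, M.val_one, ← hk, M.val_enc] at hr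
          exact hr
        · rw [hk]; exact Nat.eq_of_beq_eq_true (hfix p hp)
      · obtain ⟨h1, h2, h3, j, hj, hj'⟩ := hl1 z hz
        exact ⟨h1, h2, fun hs => h3 (List.mem_cons_of_mem _ hs), j, List.mem_cons_of_mem _ hj, hj'⟩
    · rw [List.map_cons, List.nodup_cons]
      refine ⟨fun hm => ?_, hl2⟩
      obtain ⟨z, hz, hze⟩ := List.mem_map.1 hm
      exact (hl1 z hz).2.2.1 (by rw [hze, hk]; exact List.mem_cons_self)

theorem levelsOK_spec' [DecidableEq Hg] (P : Points M) (hA : AllHold M L D n) {a : ℕ} :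
    ∀ (lv : List (ℕ × List ℕ)) (fixed : List ℕ), levelsOK P.img C D n a fixed lv = true →
    ∃ T : Finset Hg, T.card = (lv.map fun e => e.2.length).prod ∧
      ∀ k ∈ T, k ∈ stab M L D a ∧ (∀ p ∈ fixed, P.img (M.enc k) p = p) ∧
        siftOK P.img C D lv (M.enc k) = true
  | [], fixed, _ => ⟨{1}, by simp, fun k hk => by
      rw [Finset.mem_singleton] at hk; subst hk
      exact ⟨one_mem _, fun p _ => P.one p, by simp [siftOK, M.enc_one]⟩⟩
  | (b, is) :: rest, fixed, h => by
    simp only [levelsOK, Bool.and_eq_true] at h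
    obtain ⟨l, hl, hl1, hl2⟩ := levelOK_spec' M P hA is [] h.1
    obtain ⟨T, hT, hT1⟩ := levelsOK_spec' P hA rest (b :: fixed) h.2
    have hnd : l.Nodup := List.Nodup.of_map _ hl2
    refine ⟨(l.toFinset ×ˢ T).image (fun z => z.1 * z.2), ?_, ?_⟩
    · rw [Finset.card_image_of_injOn, Finset.card_product, List.card_toFinset, hnd.dedup, hT]
      · simp [hl]
      · rintro ⟨u, v⟩ huv ⟨u', v'⟩ huv' he
        simp only [Finset.coe_product, Set.mem_prod, Finset.mem_coe, List.mem_toFinset] at huv huv'
        simp only at he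
        have e := congrArg (fun z => P.img (M.enc z) b) he
        simp only [P.mul, (hT1 v huv.2).2.1 b List.mem_cons_self,
          (hT1 v' huv'.2).2.1 b List.mem_cons_self] at e
        have hu : u = u' := List.inj_on_of_nodup_map hl2 huv.1 huv'.1 e
        subst hu
        rw [mul_left_cancel he]
    · intro k hk
      obtain ⟨⟨u, v⟩, huv, rfl⟩ := Finset.mem_image.1 hk
      rw [Finset.mem_product, List.mem_toFinset] at huv
      obtain ⟨hu1, hu2, -, i, hi, f, hf, hfx⟩ := hl1 u huv.1
      obtain ⟨hv1, hv2, hv3⟩ := hT1 v huv.2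
      refine ⟨mul_mem hu1 hv1, fun p hp => ?_, ?_⟩
      · rw [P.mul, hv2 p (List.mem_cons_of_mem _ hp), hu2 p hp]
      · simp only [siftOK, List.any_eq_true]
        refine ⟨i, hi, ?_⟩
        rw [hf]
        simp only [hfx, P.mul, hv2 b List.mem_cons_self, Bool.and_eq_true]
        refine ⟨by simp, ?_⟩
        rw [← M.enc_inv, ← M.enc_mul, inv_mul_cancel_left]
        exact hv3

theorem sift_of_mem_stab [Finite Hg] (P : Points M) (hA : AllHold M L D n) {a : ℕ}
    {lv : List (ℕ × List ℕ)} (h : levelsOK P.img C D n a [] lv = true)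
    (hcard : Nat.card (stab M L D a) ≤ (lv.map fun e => e.2.length).prod) {k : Hg}
    (hk : k ∈ stab M L D a) : siftOK P.img C D lv (M.enc k) = true := by
  classical
  haveI : Fintype Hg := Fintype.ofFinite Hg
  obtain ⟨T, hT, hT1⟩ := levelsOK_spec' M P hA lv [] h
  have hsub : T ⊆ Finset.univ.filter (fun x => x ∈ stab M L D a) := fun x hx =>
    Finset.mem_filter.2 ⟨Finset.mem_univ x, (hT1 x hx).1⟩
  have heq := Finset.eq_of_subset_of_card_le hsub (by
    rw [hT, ← Fintype.card_subtype, ← Nat.card_eq_fintype_card]; exact hcard)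
  exact (hT1 k (heq ▸ Finset.mem_filter.2 ⟨Finset.mem_univ k, hk⟩)).2.2

section Exact

variable [Finite Hg] {kLow : ℕ → ℕ}

theorem sum_eq_mp {f g : ℕ → ℕ} : ∀ {l : List ℕ}, (∀ a ∈ l, f a ≤ g a) →
    (l.map g).sum ≤ (l.map f).sum → ∀ a ∈ l, f a = g a
  | [], _, _, a, ha => by simp at ha
  | b :: l, hle, hs, a, ha => by
    rw [List.map_cons, List.map_cons, List.sum_cons, List.sum_cons] at hs
    have h1 := hle b List.mem_cons_self
    have h2 : (l.map f).sum ≤ (l.map g).sum :=
      List.sum_le_sum fun x hx => hle x (List.mem_cons_of_mem _ hx)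
    rcases List.mem_cons.1 ha with rfl | ha
    · omega
    · exact sum_eq_mp (fun x hx => hle x (List.mem_cons_of_mem _ hx)) (by omega) a ha

/-- When the bound from the chains is attained, the chains give the whole stabilisers. -/
theorem card_stab_eq (hall : ∀ w, Covered M L D live w)
    (hlow : ∀ a ∈ live, kLow a ≤ Nat.card (stab M L D a) ∧ 0 < kLow a)
    (hdvd : ∀ a ∈ live, kLow a ∣ Nat.card Hg)
    (hind : (live.map fun a => Nat.card Hg / kLow a).sum ≤ L.index) :
    ∀ a ∈ live, Nat.card (stab M L D a) = kLow a := by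
  intro a ha
  have hpos : ∀ b ∈ live, 0 < Nat.card (stab M L D b) := fun b hb =>
    (hlow b hb).2.trans_le (hlow b hb).1
  have h1 := (index_le_of_covered M (kLow := fun b => Nat.card (stab M L D b)) hall
    fun b hb => ⟨le_rfl, hpos b hb⟩).2
  have hle : ∀ b ∈ live, Nat.card Hg / Nat.card (stab M L D b) ≤ Nat.card Hg / kLow b :=
    fun b hb => Nat.div_le_div_left (hlow b hb).1 (hlow b hb).2
  have e := sum_eq_mp hle (hind.trans h1) a ha
  obtain ⟨q, hq⟩ := Subgroup.card_subgroup_dvd_card (stab M L D a)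
  obtain ⟨r, hr⟩ := hdvd a ha
  rw [hq, Nat.mul_div_cancel_left _ (hpos a ha), ← hq, hr,
    Nat.mul_div_cancel_left _ (hlow a ha).2] at e
  subst e
  have hqpos : 0 < q := Nat.pos_of_ne_zero fun h0 => by
    rw [h0, mul_zero] at hr
    exact Nat.card_pos.ne' hr
  exact Nat.eq_of_mul_eq_mul_right hqpos (hq.symm.trans hr)

end Exact

/-- a list of codes closed under conjugation by some generators contains every conjugate -/
theorem conj_mem [Finite Hg] (gens : List ℕ) (cls : List ℕ)
    (hgen : Subgroup.closure {x : Hg | M.enc x ∈ gens} = ⊤)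
    (hok : ∀ z ∈ cls, M.Ok z)
    (hclosed : ∀ g ∈ gens, ∀ z ∈ cls, C.mul (C.mul g z) (C.inv g) ∈ cls) :
    ∀ x z : Hg, M.enc z ∈ cls → M.enc (x * z * x⁻¹) ∈ cls := by
  let S : Submonoid Hg :=
    { carrier := {x | ∀ z : Hg, M.enc z ∈ cls → M.enc (x * z * x⁻¹) ∈ cls}
      one_mem' := fun z hz => by simpa using hz
      mul_mem' := fun {a b} ha hb z hz => by
        have := ha _ (hb z hz)
        simpa [mul_inv_rev, mul_assoc] using this }
  have hS : ∀ x : Hg, x ∈ S := by
    intro x
    have hx : x ∈ Subgroup.closure {x : Hg | M.enc x ∈ gens} := hgen ▸ Subgroup.mem_top x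
    induction hx using Subgroup.closure_induction with
    | mem g hg =>
      intro z hz
      have := hclosed _ hg _ hz
      rwa [← M.enc_inv, ← M.enc_mul, ← M.enc_mul] at this
    | one => exact S.one_mem
    | mul a b _ _ ha hb => exact S.mul_mem ha hb
    | inv a _ ha =>
      have hfin : IsOfFinOrder a := isOfFinOrder_of_finite a
      have e : a⁻¹ = a ^ (orderOf a - 1) := by
        refine inv_eq_of_mul_eq_one_left ?_
        rw [← pow_succ, Nat.sub_add_cancel hfin.orderOf_pos, pow_orderOf_eq_one]
      rw [e]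
      exact S.pow_mem ha _
  exact hS

/-- The fixed cosets of an element, from the numbers of its conjugates passing any test that
all elements of the stabilisers pass. -/
theorem card_fixed_le_of_mem [Finite Hg] (hall : ∀ w, Covered M L D live w) {kLow : ℕ → ℕ}
    (hlow : ∀ a ∈ live, kLow a ≤ Nat.card (stab M L D a) ∧ 0 < kLow a)
    (hdvd : ∀ a ∈ live, kLow a ∣ Nat.card Hg)
    (hind : (live.map fun a => Nat.card Hg / kLow a).sum ≤ L.index)
    (mem : ℕ → ℕ → Bool)
    (hmem : ∀ a ∈ live, Nat.card (stab M L D a) ≤ kLow a →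
      ∀ k ∈ stab M L D a, mem a (M.enc k) = true)
    (za : Hg) (cls : List ℕ) (hcls : ∀ x : Hg, M.enc (x * za * x⁻¹) ∈ cls)
    {cB : ℕ} (hcB : Nat.card (Subgroup.centralizer ({za} : Set Hg)) ≤ cB) :
    Nat.card {q : G ⧸ L // M.hom za • q = q} ≤
      (live.map fun a => (cls.filter (mem a)).length * cB / kLow a).sum := by
  classical
  haveI : Fintype Hg := Fintype.ofFinite Hg
  have hst := card_stab_eq M hall hlow hdvd hind
  haveI : L.FiniteIndex := (index_le_of_covered M hall hlow).1
  haveI : Finite (G ⧸ L) := Subgroup.finite_quotient_of_finiteIndex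
  let f : ℕ → Hg → G ⧸ L := fun a x => QuotientGroup.mk ((grep M D a * M.hom x)⁻¹)
  let X : ℕ → Finset Hg := fun a => Finset.univ.filter fun x => x * za * x⁻¹ ∈ stab M L D a
  have hfix : ∀ a x, M.hom za • f a x = f a x → x * za * x⁻¹ ∈ stab M L D a := by
    intro a x h
    simp only [f, MulAction.Quotient.smul_coe, smul_eq_mul, QuotientGroup.eq] at h
    show DCert22.Rel L _ _
    have h' := L.inv_mem h
    simpa [DCert22.Rel, map_mul, map_inv, mul_assoc] using h'
  haveI : Fintype {q : G ⧸ L // M.hom za • q = q} := Fintype.ofFinite _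
  let U : Finset (G ⧸ L) := live.toFinset.biUnion fun a => (X a).image (f a)
  have hU : ∀ q : {q : G ⧸ L // M.hom za • q = q}, q.1 ∈ U := by
    rintro ⟨q, hq⟩
    induction q using QuotientGroup.induction_on with
    | _ w =>
      obtain ⟨b, hb, g, ⟨y, rfl⟩, hr⟩ := hall w⁻¹
      rw [stVal, M.val_enc] at hr
      have e : f b y = (w : G ⧸ L) := by
        refine QuotientGroup.eq.2 ?_
        have := L.inv_mem hr
        simpa [mul_assoc] using this
      exact Finset.mem_biUnion.2 ⟨b, List.mem_toFinset.2 hb, Finset.mem_image.2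
        ⟨y, Finset.mem_filter.2 ⟨Finset.mem_univ _, hfix b y (by rw [e]; exact hq)⟩, e⟩⟩
  have himg : ∀ a ∈ live, ((X a).image (f a)).card ≤
      (cls.filter (mem a)).length * cB / kLow a := by
    intro a ha
    rw [Nat.le_div_iff_mul_le (hlow a ha).2, ← hst a ha]
    have h1 : ((X a).image (f a)).card * Nat.card (stab M L D a) ≤ (X a).card := by
      have hmaps : ∀ q ∈ (X a).image (f a), Nat.card (stab M L D a) ≤
          ((X a).filter fun x => f a x = q).card := by
        intro q hq
        obtain ⟨x, hx, rfl⟩ := Finset.mem_image.1 hq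
        rw [Nat.card_eq_fintype_card, ← Finset.card_univ]
        refine Finset.card_le_card_of_injOn (fun s => (s : Hg) * x) (fun s _ => ?_) ?_
        · simp only [Finset.coe_filter, Finset.mem_filter, Finset.mem_univ, true_and, X,
            Set.mem_setOf_eq] at hx ⊢
          refine ⟨?_, ?_⟩
          · have := mul_mem (mul_mem s.2 hx) (inv_mem s.2)
            simpa [mul_assoc, mul_inv_rev] using this
          · refine QuotientGroup.eq.2 ?_
            have hs : DCert22.Rel L (grep M D a * M.hom s) (grep M D a) := s.2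
            simpa [DCert22.Rel, mul_assoc] using hs
        · intro s _ t _ h
          exact Subtype.ext (mul_right_cancel h)
      rw [Finset.card_eq_sum_card_image (f a) (X a)]
      calc ((X a).image (f a)).card * Nat.card (stab M L D a)
          = ∑ _q ∈ (X a).image (f a), Nat.card (stab M L D a) := by simp
        _ ≤ _ := Finset.sum_le_sum hmaps
    refine h1.trans ?_
    let img : Finset ℕ := (cls.filter (mem a)).toFinset
    have hm : ∀ x ∈ X a, M.enc (x * za * x⁻¹) ∈ img := by
      intro x hx
      refine List.mem_toFinset.2 (List.mem_filter.2 ⟨hcls x, ?_⟩)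
      exact hmem a ha (hst a ha).le _ (Finset.mem_filter.1 hx).2
    rw [Finset.card_eq_sum_card_fiberwise hm]
    refine (Finset.sum_le_card_nsmul img _ cB fun q _ => ?_).trans ?_
    · rcases ((X a).filter fun x => M.enc (x * za * x⁻¹) = q).eq_empty_or_nonempty with h | h
      · simp [h]
      obtain ⟨x₀, hx₀⟩ := h
      refine le_trans ?_ hcB
      rw [Nat.card_eq_fintype_card]
      have hcen : ∀ x ∈ (X a).filter (fun x => M.enc (x * za * x⁻¹) = q),
          x₀⁻¹ * x ∈ Subgroup.centralizer ({za} : Set Hg) := by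
        intro x hx
        have e := M.enc_inj ((Finset.mem_filter.1 hx).2.trans (Finset.mem_filter.1 hx₀).2.symm)
        refine Subgroup.mem_centralizer_singleton_iff.2 ?_
        calc x₀⁻¹ * x * za = x₀⁻¹ * (x * za * x⁻¹) * x := by group
          _ = za * (x₀⁻¹ * x) := by rw [e]; group
      rw [← Fintype.card_coe]
      exact Fintype.card_le_of_injective
        (fun x : {x // x ∈ (X a).filter (fun x => M.enc (x * za * x⁻¹) = q)} =>
          (⟨x₀⁻¹ * x.1, hcen x.1 x.2⟩ : Subgroup.centralizer ({za} : Set Hg)))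
        fun x y h => Subtype.ext (mul_left_cancel (congrArg Subtype.val h))
    · rw [smul_eq_mul]
      exact Nat.mul_le_mul_right _ (List.toFinset_card_le _)
  have hUc : Nat.card {q : G ⧸ L // M.hom za • q = q} ≤ U.card := by
    rw [Nat.card_eq_fintype_card, ← Fintype.card_coe U]
    exact Fintype.card_le_of_injective (fun q => (⟨q.1, hU q⟩ : U)) fun q r h =>
      Subtype.ext (congrArg Subtype.val h :)
  calc Nat.card {q : G ⧸ L // M.hom za • q = q} ≤ U.card := hUc
    _ ≤ ∑ a ∈ live.toFinset, ((X a).image (f a)).card := Finset.card_biUnion_le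
    _ ≤ ∑ a ∈ live.toFinset, (cls.filter (mem a)).length * cB / kLow a :=
        Finset.sum_le_sum fun a ha => himg a (List.mem_toFinset.1 ha)
    _ ≤ _ := by
        rw [Finset.sum_list_map_count]
        refine Finset.sum_le_sum fun a ha => ?_
        simp only [smul_eq_mul]
        exact Nat.le_mul_of_pos_left _ (List.count_pos_iff.2 (List.mem_toFinset.1 ha))

/-- The fixed cosets of an element, from the numbers of its conjugates in the stabilisers. -/
theorem card_fixed_le [Finite Hg] (P : Points M) (hA : AllHold M L D n)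
    (hall : ∀ w, Covered M L D live w) (lv : ℕ → List (ℕ × List ℕ))
    (hlv : ∀ a ∈ live, levelsOK P.img C D n a [] (lv a) = true)
    (hpos : ∀ a ∈ live, 0 < ((lv a).map fun e => e.2.length).prod ∧
      ((lv a).map fun e => e.2.length).prod ∣ Nat.card Hg)
    (hind : (live.map fun a => Nat.card Hg / ((lv a).map fun e => e.2.length).prod).sum ≤ L.index)
    (za : Hg) (cls : List ℕ) (hcls : ∀ x : Hg, M.enc (x * za * x⁻¹) ∈ cls)
    {cB : ℕ} (hcB : Nat.card (Subgroup.centralizer ({za} : Set Hg)) ≤ cB) :
    Nat.card {q : G ⧸ L // M.hom za • q = q} ≤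
      (live.map fun a => (cls.filter (siftOK P.img C D (lv a))).length * cB /
        ((lv a).map fun e => e.2.length).prod).sum := by
  refine card_fixed_le_of_mem M hall (kLow := fun a => ((lv a).map fun e => e.2.length).prod)
    (fun a ha => ⟨le_card_stab M P hA (hlv a ha), (hpos a ha).1⟩) (fun a ha => (hpos a ha).2) hind
    (fun a => siftOK P.img C D (lv a))
    (fun a ha hc k hk => sift_of_mem_stab M P hA (hlv a ha) hc hk) za cls hcls hcB

end CfsgLib.DCosetFix69
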